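import Mathlib.RingTheory.Ideal.Cotangent
import Mathlib.RingTheory.Flat.Stability
import Mathlib.RingTheory.Flat.Basic
import Mathlib.RingTheory.Flat.Equalizer
import Mathlib.RingTheory.IsTensorProduct
import Mathlib.LinearAlgebra.TensorProduct.Quotient
import Mathlib.LinearAlgebra.TensorProduct.Tower
import Mathlib.RingTheory.Ideal.Quotient.Operations
import Mathlib.LinearAlgebra.TensorProduct.RightExactness

/-! Base change of a flat conormal module along a flat quotient. -/

set_option autoImplicit false
set_option linter.style.haveILetI false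

universe u

open scoped TensorProduct

namespace Groth.Agent.Lib.LCI5.ConormalFlat

theorem nonempty_cotangent {R : Type u} [CommRing R] (I : Ideal R) :
    Nonempty ((R ⧸ I) ⊗[R] I ≃ₗ[R ⧸ I] I.Cotangent) :=
  let e : ((R ⧸ I) ⊗[R] I) ≃ₗ[R] I.Cotangent := TensorProduct.quotTensorEquivQuotSMul I I
  ⟨{ e.toAddEquiv with
      map_smul' := fun c x => by
        obtain ⟨r, rfl⟩ := Ideal.Quotient.mk_surjective c
        change e (Ideal.Quotient.mk I r • x) = r • e x
        rw [← map_smul]
        exact congrArg e (algebraMap_smul (R ⧸ I) r x) }⟩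

/-- The ideal of the fibre is the base change of the ideal. -/
theorem nonempty_ker {A K P Q B : Type u} [CommRing A] [CommRing K] [CommRing P] [CommRing Q]
    [CommRing B] [Algebra A K] [Algebra A P] [Algebra K Q] [Algebra P Q] [Algebra A Q]
    [IsScalarTower A K Q] [IsScalarTower A P Q] [Algebra.IsPushout A K P Q] [Algebra A B]
    [Algebra P B] [IsScalarTower A P B] [Module.Flat A B] (hs : Function.Surjective (algebraMap P B))
    (I : Ideal P) (hI : RingHom.ker (algebraMap P B) = I) :
    Nonempty (Q ⊗[P] I ≃ₗ[Q] (I.map (algebraMap P Q) : Ideal Q)) := by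
  let g : P →ₗ[A] B := (IsScalarTower.toAlgHom A P B).toLinearMap
  let ι : I →ₗ[A] P := I.subtype.restrictScalars A
  have hex : Function.Exact ι g := fun x => by
    rw [show g x = algebraMap P B x from rfl, ← RingHom.mem_ker, hI]
    exact ⟨fun hx => ⟨⟨x, hx⟩, rfl⟩, fun ⟨z, hz⟩ => hz ▸ z.2⟩
  have hinj := LinearMap.lTensor_injective_of_exact_of_flat g hs ι I.subtype_injective hex K
  let c := Algebra.IsPushout.cancelBaseChange A K P Q I
  let e := Algebra.IsPushout.equiv A K P Q
  let μ : Q ⊗[P] I →ₗ[Q] Q := ((Algebra.linearMap P Q).comp I.subtype).liftBaseChange Q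
  have key : ∀ y : K ⊗[A] I, μ (c.symm y) = e (ι.lTensor K y) := by
    intro y
    induction y using TensorProduct.induction_on with
    | zero => simp
    | add a b ha hb => simp only [map_add, ha, hb]
    | tmul s m =>
        rw [Algebra.IsPushout.cancelBaseChange_symm_tmul, LinearMap.lTensor_tmul,
          Algebra.IsPushout.equiv_tmul]
        simp [μ, ι, Algebra.smul_def]
  have hμ : Function.Injective μ := by
    intro x y h
    obtain ⟨x, rfl⟩ := c.symm.surjective x
    obtain ⟨y, rfl⟩ := c.symm.surjective y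
    rw [key, key] at h
    rw [hinj (e.injective h)]
  have hrange : LinearMap.range μ = I.map (algebraMap P Q) := by
    refine le_antisymm ?_ (Ideal.map_le_iff_le_comap.2 fun x hx => ⟨(1 : Q) ⊗ₜ[P] ⟨x, hx⟩, by simp [μ]⟩)
    rintro _ ⟨z, rfl⟩
    induction z using TensorProduct.induction_on with
    | zero => simp
    | add a b ha hb => rw [map_add]; exact add_mem ha hb
    | tmul q m =>
        simp only [μ, LinearMap.liftBaseChange_tmul, LinearMap.comp_apply, Submodule.subtype_apply,
          Algebra.linearMap_apply, smul_eq_mul]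
        exact Ideal.mul_mem_left _ _ (Ideal.mem_map_of_mem _ m.2)
  exact ⟨(LinearEquiv.ofInjective μ hμ).trans (LinearEquiv.ofEq _ _ hrange)⟩

/-- Flatness of the conormal module passes to the fibres of a flat quotient. -/
theorem flat_cotangent_map {A K P Q B : Type u} [CommRing A] [CommRing K] [CommRing P] [CommRing Q]
    [CommRing B] [Algebra A K] [Algebra A P] [Algebra K Q] [Algebra P Q] [Algebra A Q]
    [IsScalarTower A K Q] [IsScalarTower A P Q] [Algebra.IsPushout A K P Q] [Algebra A B]
    [Algebra P B] [IsScalarTower A P B] [Module.Flat A B] (hs : Function.Surjective (algebraMap P B))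
    (I : Ideal P) (hI : RingHom.ker (algebraMap P B) = I) [Module.Flat B (B ⊗[P] I)] :
    Module.Flat (Q ⧸ I.map (algebraMap P Q)) (I.map (algebraMap P Q) : Ideal Q).Cotangent := by
  let J : Ideal Q := I.map (algebraMap P Q)
  obtain ⟨e⟩ := nonempty_ker (A := A) (K := K) (P := P) (Q := Q) (B := B) hs I hI
  obtain ⟨e'⟩ := nonempty_cotangent J
  let g₀ : { g : P →+* Q ⧸ J // RingHom.ker (algebraMap P B) ≤ RingHom.ker g } := ⟨algebraMap P (Q ⧸ J), by
    rw [hI]
    intro x hx
    exact Ideal.Quotient.eq_zero_iff_mem.2 (Ideal.mem_map_of_mem _ hx)⟩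
  let f : B →+* Q ⧸ J := (algebraMap P B).liftOfSurjective hs g₀
  letI : Algebra B (Q ⧸ J) := f.toAlgebra
  haveI : IsScalarTower P B (Q ⧸ J) := IsScalarTower.of_algebraMap_eq (R := P) (S := B) (A := Q ⧸ J)
    fun x => (RingHom.liftOfSurjective_comp_apply (algebraMap P B) hs g₀ x).symm
  haveI : Module.Flat (Q ⧸ J) ((Q ⧸ J) ⊗[B] (B ⊗[P] I)) := inferInstance
  exact Module.Flat.of_linearEquiv
    (((TensorProduct.AlgebraTensorModule.congr (LinearEquiv.refl (Q ⧸ J) (Q ⧸ J)) e).symm.trans
      (TensorProduct.AlgebraTensorModule.cancelBaseChange P Q (Q ⧸ J) (Q ⧸ J) I)).trans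
        (TensorProduct.AlgebraTensorModule.cancelBaseChange P B (Q ⧸ J) (Q ⧸ J) I).symm |>.symm.trans
      e').symm

end Groth.Agent.Lib.LCI5.ConormalFlat
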