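import Groth.Agent.Lib.Vasconcelos.Global
import Groth.Agent.Lib.Regular45.PDLocal
import Groth.Agent.Lib.Regular.Serre
import Groth.Agent.S15821
import Groth.Prelude.Def_LCI2
import Mathlib.RingTheory.RegularLocalRing.Polynomial
import Mathlib.RingTheory.KrullDimension.Polynomial
import Mathlib.RingTheory.Ideal.Height
import Mathlib.RingTheory.Flat.EquationalCriterion

/-! Ideals of polynomial rings over a field with flat conormal module are Koszul-regular. -/

set_option autoImplicit false
set_option linter.style.haveILetI false

universe u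

open Groth.Agent.Lib.Regular.PD

namespace Groth.Agent.Lib.LCI5.FieldLCI

theorem isKoszulRegularIdeal {k : Type u} [Field k] {n : ℕ} (J : Ideal (MvPolynomial (Fin n) k))
    [Module.Flat (MvPolynomial (Fin n) k ⧸ J) J.Cotangent] : LCI.IsKoszulRegularIdeal J := by
  have hpd : PDle (MvPolynomial (Fin n) k) J n := by
    refine Regular45.PDLocal.pdle_of_localization n J fun p => ?_
    haveI : IsRegularLocalRing (Localization.AtPrime p.asIdeal) := inferInstance
    refine pdle_mono (Regular.Serre.pdle_all (R := Localization.AtPrime p.asIdeal) _) ?_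
    have h1 := IsRegularLocalRing.spanFinrank_maximalIdeal (R := Localization.AtPrime p.asIdeal)
    rw [IsLocalization.AtPrime.ringKrullDim_eq_height p.asIdeal (Localization.AtPrime p.asIdeal)] at h1
    have h2 := (Ideal.height_le_ringKrullDim_of_ne_top p.isPrime.ne_top).trans_eq
      MvPolynomial.ringKrullDim_of_isNoetherianRing
    rw [ringKrullDim_eq_zero_of_field, zero_add] at h2
    simpa using (show (_ : ℕ) ≤ Nat.card (Fin n) by exact_mod_cast h1.trans_le h2)
  haveI : Module.Finite (MvPolynomial (Fin n) k ⧸ J) J.Cotangent :=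
    @Module.Finite.of_restrictScalars_finite (MvPolynomial (Fin n) k) (MvPolynomial (Fin n) k ⧸ J) J.Cotangent
      _ _ _ _ _ _ _ (Module.Finite.of_surjective J.toCotangent J.toCotangent_surjective)
  haveI : Module.FinitePresentation (MvPolynomial (Fin n) k ⧸ J) J.Cotangent :=
    Module.finitePresentation_of_finite _ _
  haveI : Module.Projective (MvPolynomial (Fin n) k ⧸ J) J.Cotangent :=
    Module.Flat.projective_of_finitePresentation
  intro p hp
  haveI := p.isPrime
  obtain ⟨g, hg, rs, hreg, hrs⟩ := Vasconcelos.Global.isRegularIdeal J n hpd p.asIdeal hp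
  exact ⟨g, hg, rs, (Groth.Agent.S15821.result _ rs hreg.toIsWeaklyRegular).1, hrs.symm⟩

end Groth.Agent.Lib.LCI5.FieldLCI
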