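import Groth.Agent.Lib.LCI5.SymRel
import Groth.Agent.Lib.LCI5.ConormalFlat
import Groth.Agent.Lib.Pure.ProjDescent
import Mathlib.RingTheory.Finiteness.Descent
import Mathlib.RingTheory.Flat.EquationalCriterion
import Mathlib.RingTheory.Flat.FaithfullyFlat.Algebra
import Mathlib.RingTheory.TensorProduct.Quotient
import Mathlib.RingTheory.TensorProduct.MvPolynomial

/-! Faithfully flat descent of quasi-regular ideals. -/

set_option autoImplicit false
set_option backward.isDefEq.respectTransparency false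
set_option linter.style.haveILetI false

universe u

open MvPolynomial
open scoped TensorProduct

namespace Groth.Agent.Lib.LCI5.QRDescent

variable {A B : Type u} [CommRing A] [CommRing B] [Algebra A B]

/-- Relations of degree one modulo the square of the ideal come from below along flat maps. -/
theorem rel_le [Module.Flat A B] {r : ℕ} (f : Fin r → A) (I : Ideal A) (hI : I.FG) :
    SymRel.rel (I.map (algebraMap A B)) (algebraMap A B ∘ f) ≤
      (SymRel.rel I f).map (MvPolynomial.map (algebraMap A B)) := by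
  classical
  refine Ideal.span_le.2 ?_
  rintro _ ⟨c, hc, rfl⟩
  obtain ⟨m, g, hg⟩ := Submodule.fg_iff_exists_fin_generating_family.1 (hI.pow (n := 2))
  change ∑ i, c i * algebraMap A B (f i) ∈ (I.map (algebraMap A B)) ^ 2 at hc
  rw [← Ideal.map_pow, ← hg] at hc
  change _ ∈ (Ideal.span (Set.range g)).map (algebraMap A B) at hc
  rw [Ideal.map_span, ← Set.range_comp] at hc
  obtain ⟨d, hd⟩ := Ideal.mem_span_range_iff_exists_fun.1 hc
  let x : Fin r ⊕ Fin m → B := Sum.elim c fun k => -d k
  have hx : ∑ i, Sum.elim f g i • x i = 0 := by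
    rw [Fintype.sum_sum_type]
    simp only [x, Sum.elim_inl, Sum.elim_inr, Algebra.smul_def]
    have e1 : ∑ i, algebraMap A B (f i) * c i = ∑ i, c i * algebraMap A B (f i) :=
      Finset.sum_congr rfl fun i _ => mul_comm _ _
    rw [e1, ← hd, ← Finset.sum_add_distrib]
    refine Finset.sum_eq_zero fun k _ => ?_
    simp only [Function.comp_apply]
    ring
  obtain ⟨k, a, y, hxy, hfa⟩ := Module.Flat.isTrivialRelation_of_sum_smul_eq_zero (R := A) (M := B) (f := Sum.elim f g) (x := x) hx
  have hL : ∀ j, (∑ i, C (a (Sum.inl i) j) * X i : MvPolynomial (Fin r) A) ∈ SymRel.rel I f := fun j => by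
    refine Ideal.subset_span ⟨fun i => a (Sum.inl i) j, ?_, rfl⟩
    change ∑ i, a (Sum.inl i) j * f i ∈ I ^ 2
    have h0 := hfa j
    rw [Fintype.sum_sum_type] at h0
    simp only [Sum.elim_inl, Sum.elim_inr, smul_eq_mul, mul_comm (f _)] at h0
    rw [add_eq_zero_iff_eq_neg] at h0
    rw [h0, ← hg]
    exact neg_mem (Ideal.sum_mem _ fun i _ => Ideal.mul_mem_right _ _ (Ideal.subset_span ⟨i, rfl⟩))
  have hc' : ∀ i, c i = ∑ j, algebraMap A B (a (Sum.inl i) j) * y j := fun i => by
    have := hxy (Sum.inl i)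
    simpa [x, Algebra.smul_def] using this
  show ∑ i, C (c i) * X i ∈ _
  have : (∑ i, C (c i) * X i : MvPolynomial (Fin r) B) =
      ∑ j, C (y j) * MvPolynomial.map (algebraMap A B) (∑ i, C (a (Sum.inl i) j) * X i) := by
    simp only [map_sum, map_mul, map_C, map_X, Finset.mul_sum, hc', Finset.sum_mul]
    rw [Finset.sum_comm]
    refine Finset.sum_congr rfl fun j _ => Finset.sum_congr rfl fun i _ => ?_
    ring
  rw [this]
  exact Ideal.sum_mem _ fun j _ => Ideal.mul_mem_left _ _ (Ideal.mem_map_of_mem _ (hL j))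

theorem symGr [Module.FaithfullyFlat A B] (I : Ideal A) (hI : I.FG)
    (h : PP16.SymGrBijective B (I.map (algebraMap A B))) : PP16.SymGrBijective A I := by
  classical
  intro ι _ _
  obtain ⟨φ, hφ⟩ := H80.PP.Chart.exists_phiJ I ι
  refine ⟨φ, hφ, (injective_iff_map_eq_zero φ).mpr fun t ht => ?_, H80.PP.Chart.phiJ_surjective I φ hφ⟩
  obtain ⟨r, f, hf⟩ := Submodule.fg_iff_exists_fin_generating_family.1 hI
  let fI : Fin r → I := fun i => ⟨f i, hf.le (Submodule.subset_span ⟨i, rfl⟩)⟩
  refine SymRel.eq_zero_of_rel fI φ hφ hf (fun Q hQ hev => ?_) t ht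
  let J := I.map (algebraMap A B)
  obtain ⟨φB, hφB, hbij⟩ := h ι
  let fJ : Fin r → J := fun i => ⟨algebraMap A B (f i), Ideal.mem_map_of_mem _ (fI i).2⟩
  have hJ : Ideal.span (Set.range fun i => (fJ i : B)) = J := by
    change Ideal.span (Set.range (algebraMap A B ∘ f)) = I.map (algebraMap A B)
    rw [Set.range_comp, ← Ideal.map_span]
    exact congrArg (Ideal.map (algebraMap A B)) hf
  have hB := SymRel.mem_rel fJ φB hφB hJ hbij.1 (MvPolynomial.map (algebraMap A B) Q) (hQ.map _) (by
    rw [← Ideal.map_pow, eval_map,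
      show eval₂ (algebraMap A B) (fun i => (fJ i : B)) Q = algebraMap A B (eval f Q) from
        (eval₂_comp_left (algebraMap A B) (RingHom.id A) f Q).symm]
    exact Ideal.mem_map_of_mem _ hev)
  letI := MvPolynomial.algebraMvPolynomial (R := A) (σ := Fin r) (S := B)
  haveI : Module.FaithfullyFlat (MvPolynomial (Fin r) A) (MvPolynomial (Fin r) B) :=
    Module.FaithfullyFlat.of_linearEquiv (MvPolynomial (Fin r) A) (MvPolynomial (Fin r) A ⊗[A] B)
      (Algebra.IsPushout.equiv A (MvPolynomial (Fin r) A) B (MvPolynomial (Fin r) B)).toLinearEquiv.symm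
  exact (Ideal.comap_map_eq_self_of_faithfullyFlat (B := MvPolynomial (Fin r) B) _).le
    (rel_le f I hI hB)

/-- The conormal module of the extended ideal is the base change. -/
theorem nonempty_baseChange_cotangent [Module.Flat A B] (I : Ideal A) :
    Nonempty ((B ⧸ I.map (algebraMap A B)) ⊗[A ⧸ I] I.Cotangent ≃ₗ[B ⧸ I.map (algebraMap A B)]
      (I.map (algebraMap A B)).Cotangent) := by
  let J := I.map (algebraMap A B)
  let μ : B ⊗[A] I →ₗ[B] B := ((Algebra.linearMap A B).comp I.subtype).liftBaseChange B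
  have hμ : Function.Injective μ := by
    have hinj := Module.Flat.lTensor_preserves_injective_linearMap (M := B) I.subtype I.subtype_injective
    have : (μ : B ⊗[A] I → B) = TensorProduct.rid A B ∘ I.subtype.lTensor B := by
      funext z
      induction z using TensorProduct.induction_on with
      | zero => simp
      | tmul b x => simp [μ, Algebra.smul_def, mul_comm]
      | add x y hx hy => simp only [Function.comp_apply] at hx hy; simp [hx, hy]
    rw [this]
    exact (TensorProduct.rid A B).injective.comp hinj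
  have hrange : LinearMap.range μ = J := by
    refine le_antisymm ?_ (Ideal.map_le_iff_le_comap.2 fun x hx => ⟨(1 : B) ⊗ₜ[A] ⟨x, hx⟩, by simp [μ]⟩)
    rintro _ ⟨z, rfl⟩
    induction z using TensorProduct.induction_on with
    | zero => simp
    | add a b ha hb => rw [map_add]; exact add_mem ha hb
    | tmul q m =>
        simp only [μ, LinearMap.liftBaseChange_tmul, LinearMap.comp_apply, Submodule.subtype_apply,
          Algebra.linearMap_apply, smul_eq_mul]
        exact Ideal.mul_mem_left _ _ (Ideal.mem_map_of_mem _ m.2)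
  let e : B ⊗[A] I ≃ₗ[B] J := (LinearEquiv.ofInjective μ hμ).trans (LinearEquiv.ofEq _ _ hrange)
  obtain ⟨eI⟩ := ConormalFlat.nonempty_cotangent I
  obtain ⟨eJ⟩ := ConormalFlat.nonempty_cotangent J
  exact ⟨((TensorProduct.AlgebraTensorModule.congr (LinearEquiv.refl (B ⧸ J) (B ⧸ J)) eI.symm).trans
      (TensorProduct.AlgebraTensorModule.cancelBaseChange A (A ⧸ I) (B ⧸ J) (B ⧸ J) I)).trans
      (((TensorProduct.AlgebraTensorModule.cancelBaseChange A B (B ⧸ J) (B ⧸ J) I).symm.trans
        (TensorProduct.AlgebraTensorModule.congr (LinearEquiv.refl (B ⧸ J) (B ⧸ J)) e)).trans eJ)⟩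

theorem projective [Module.FaithfullyFlat A B] (I : Ideal A)
    (h : Module.Projective (B ⧸ I.map (algebraMap A B)) (I.map (algebraMap A B)).Cotangent) :
    Module.Projective (A ⧸ I) I.Cotangent := by
  haveI := h
  let J := I.map (algebraMap A B)
  obtain ⟨e⟩ := nonempty_baseChange_cotangent (A := A) (B := B) I
  haveI : Module.Projective (B ⧸ J) ((B ⧸ J) ⊗[A ⧸ I] I.Cotangent) := Module.Projective.of_equiv e.symm
  let eA : (B ⧸ J) ≃ₗ[A] (A ⧸ I) ⊗[A] B :=
    ((Algebra.TensorProduct.quotIdealMapEquivTensorQuot B I).toLinearEquiv.restrictScalars A).trans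
      (TensorProduct.comm A B (A ⧸ I))
  haveI : Module.FaithfullyFlat (A ⧸ I) (B ⧸ J) :=
    Module.FaithfullyFlat.of_linearEquiv (A ⧸ I) ((A ⧸ I) ⊗[A] B)
      (LinearEquiv.extendScalarsOfSurjective Ideal.Quotient.mk_surjective eA)
  exact Pure.ProjDescent.projective_of_faithfullyFlat (B ⧸ J)

end Groth.Agent.Lib.LCI5.QRDescent
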