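import Groth.Agent.H80.PP.Criterion
import Mathlib.RingTheory.MvPolynomial.Homogeneous

/-!
The injectivity of `Sym^n(J/J²) → J^n/J^(n+1)` in terms of an arbitrary system of generators.
-/

set_option autoImplicit false
set_option backward.isDefEq.respectTransparency false

universe u

open MvPolynomial Groth.Agent.Lib.SymGr.Core

namespace Groth.Agent.Lib.LCI5.SymRel

variable {R : Type u} [CommRing R] {r : ℕ}

/-- The ideal of the relations of degree one modulo `J²`. -/
noncomputable def rel (J : Ideal R) (f : Fin r → R) : Ideal (MvPolynomial (Fin r) R) :=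
  Ideal.span ((fun c : Fin r → R => ∑ i, C (c i) * X i) '' {c | ∑ i, c i * f i ∈ J ^ 2})

theorem homog_mem_span {ι : Type*} [Fintype ι] (P : MvPolynomial (Fin r) R)
    (hP : P.IsHomogeneous (Fintype.card ι)) :
    P ∈ Submodule.span R (Set.range fun h : ι → Fin r => ∏ i, (X (h i) : MvPolynomial (Fin r) R)) := by
  classical
  rw [P.as_sum]
  refine Submodule.sum_mem _ fun e he => ?_
  have hdeg : Finsupp.degree e = Fintype.card ι := by
    by_contra hne
    exact mem_support_iff.mp he (hP.coeff_eq_zero hne)
  have hc : Fintype.card (Σ i, Fin (e i)) = Fintype.card ι := by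
    rw [← hdeg, Fintype.card_sigma, Finsupp.degree_eq_sum]
    simp
  let E := Fintype.equivOfCardEq hc
  rw [← mul_one (P.coeff e), ← smul_eq_mul, ← smul_monomial]
  refine Submodule.smul_mem _ _ (Submodule.subset_span ⟨fun i => (E.symm i).1, ?_⟩)
  dsimp only
  rw [monomial_eq, map_one, one_mul, Finsupp.prod_fintype _ _ fun i => pow_zero _,
    Equiv.prod_comp E.symm fun k => (X k.1 : MvPolynomial (Fin r) R), Fintype.prod_sigma]
  exact Finset.prod_congr rfl fun i _ => by simp

variable {J : Ideal R} (f : Fin r → J)

theorem cotangent_surjective (hJ : Ideal.span (Set.range fun i => (f i : R)) = J) :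
    Function.Surjective (J.toCotangent ∘ₗ Fintype.linearCombination R f) := by
  intro w
  obtain ⟨⟨x, hx⟩, rfl⟩ := J.toCotangent_surjective w
  rw [← hJ] at hx
  obtain ⟨c, hc⟩ := Ideal.mem_span_range_iff_exists_fun.1 hx
  refine ⟨c, congrArg J.toCotangent (Subtype.ext ?_)⟩
  simp [Fintype.linearCombination_apply, ← hc]

theorem comb_eq_zero_iff (c : Fin r → R) :
    J.toCotangent (Fintype.linearCombination R f c) = 0 ↔ ∑ i, c i * (f i : R) ∈ J ^ 2 := by
  rw [Ideal.toCotangent_eq_zero]
  simp [Fintype.linearCombination_apply]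

variable {ι : Type u} [Fintype ι] [Nonempty ι]
  (φ : SymmetricPower R ι J.Cotangent →ₗ[R] PP16.grJ R J (Fintype.card ι))
  (hφ : ∀ x : ι → J, φ (SymmetricPower.tprod R (fun i => J.toCotangent (x i))) = PP16.zetaJ R J x)

include hφ in
/-- If the product map is injective, forms vanishing in the graded ring are linear combinations of
relations of degree one. -/
theorem mem_rel (hJ : Ideal.span (Set.range fun i => (f i : R)) = J) (hinj : Function.Injective φ)
    (Q : MvPolynomial (Fin r) R) (hQ : Q.IsHomogeneous (Fintype.card ι))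
    (hev : eval (fun i => (f i : R)) Q ∈ J ^ (Fintype.card ι + 1)) :
    Q ∈ rel J (fun i => (f i : R)) := by
  classical
  obtain ⟨T, hT, hTφ⟩ := H80.PP.Chart.exists_T J f ι φ hφ
  have hTQ : T Q = 0 := by
    refine hinj ?_
    rw [hTφ Q hQ (Ideal.pow_le_pow_right (Nat.le_succ _) hev), map_zero, Submodule.Quotient.mk_eq_zero]
    exact hev
  let S := MvPolynomial (Fin r) R ⧸ rel J (fun i => (f i : R))
  let π : (Fin r → R) →ₗ[R] J.Cotangent := J.toCotangent ∘ₗ Fintype.linearCombination R f
  let L₀ : (Fin r → R) →ₗ[R] S := (Ideal.Quotient.mkₐ R _).toLinearMap ∘ₗ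
    Fintype.linearCombination R fun i => (X i : MvPolynomial (Fin r) R)
  have hker : LinearMap.ker π ≤ LinearMap.ker L₀ := fun c hc => by
    refine Ideal.Quotient.eq_zero_iff_mem.2 (Ideal.subset_span ⟨c, (comb_eq_zero_iff f c).1 hc, ?_⟩)
    simp [Fintype.linearCombination_apply, smul_eq_C_mul]
  let e := π.quotKerEquivOfSurjective (cotangent_surjective f hJ)
  let lin : J.Cotangent →ₗ[R] S := (Submodule.liftQ _ L₀ hker) ∘ₗ e.symm.toLinearMap
  have hlin : ∀ i, lin (J.toCotangent (f i)) = Ideal.Quotient.mk _ (X i) := fun i => by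
    have h1 : J.toCotangent (f i) = e (Submodule.Quotient.mk (Pi.single i 1)) := by
      change _ = J.toCotangent (Fintype.linearCombination R f (Pi.single i 1))
      rw [Fintype.linearCombination_apply_single, one_smul]
    change Submodule.liftQ _ L₀ hker (e.symm (J.toCotangent (f i))) = _
    rw [h1, LinearEquiv.symm_apply_apply, Submodule.liftQ_apply]
    change Ideal.Quotient.mk _ (Fintype.linearCombination R
      (fun i => (X i : MvPolynomial (Fin r) R)) (Pi.single i 1)) = _
    rw [Fintype.linearCombination_apply_single, one_smul]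
  let G : SymmetricPower R ι J.Cotangent →ₗ[R] S :=
    symLift ((MultilinearMap.mkPiAlgebra R ι S).compLinearMap fun _ => lin)
      fun e v => Equiv.prod_comp e fun i => lin (v i)
  have hGT : ∀ P ∈ Submodule.span R
      (Set.range fun h : ι → Fin r => ∏ i, (X (h i) : MvPolynomial (Fin r) R)),
      G (T P) = Ideal.Quotient.mkₐ R _ P := by
    intro P hP
    induction hP using Submodule.span_induction with
    | mem x hx =>
      obtain ⟨h, rfl⟩ := hx
      rw [hT, symLift_tprod, map_prod]
      simp only [MultilinearMap.compLinearMap_apply, MultilinearMap.mkPiAlgebra_apply, hlin]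
      rfl
    | zero => simp
    | add x y _ _ hx hy => rw [map_add, map_add, map_add, hx, hy]
    | smul c x _ hx => rw [map_smul, map_smul, map_smul, hx]
  have := hGT Q (homog_mem_span Q hQ)
  rw [hTQ, map_zero] at this
  exact Ideal.Quotient.eq_zero_iff_mem.1 this.symm

include hφ in
/-- Conversely the product map is injective. -/
theorem eq_zero_of_rel (hJ : Ideal.span (Set.range fun i => (f i : R)) = J)
    (H : ∀ Q : MvPolynomial (Fin r) R, Q.IsHomogeneous (Fintype.card ι) →
      eval (fun i => (f i : R)) Q ∈ J ^ (Fintype.card ι + 1) → Q ∈ rel J (fun i => (f i : R)))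
    (t : SymmetricPower R ι J.Cotangent) (ht : φ t = 0) : t = 0 := by
  classical
  obtain ⟨T, hT, hTφ⟩ := H80.PP.Chart.exists_T J f ι φ hφ
  have hprod : ∀ h : ι → Fin r,
      (∏ i, (X (h i) : MvPolynomial (Fin r) R)).IsHomogeneous (Fintype.card ι) := fun h => by
    rw [← Finset.card_univ, Finset.card_eq_sum_ones]
    exact IsHomogeneous.prod _ _ _ fun i _ => isHomogeneous_X R (h i)
  -- every tensor comes from a form
  obtain ⟨Q, hQ, rfl⟩ : ∃ Q : MvPolynomial (Fin r) R, Q.IsHomogeneous (Fintype.card ι) ∧ T Q = t := by
    clear ht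
    have hs : t ∈ Submodule.span R (Set.range (SymmetricPower.tprod R (ι := ι) (M := J.Cotangent))) := by
      rw [SymmetricPower.span_tprod_eq_top]; trivial
    induction hs using Submodule.span_induction with
    | mem x hx =>
      obtain ⟨v, rfl⟩ := hx
      choose c hc using fun i => cotangent_surjective f hJ (v i)
      refine ⟨∑ h : ι → Fin r, (∏ i, c i (h i)) • ∏ i, X (h i),
        IsHomogeneous.sum _ _ _ fun h _ => by
          rw [smul_eq_C_mul]; exact (hprod h).C_mul _, ?_⟩
      rw [map_sum]
      have hv : v = fun i => ∑ j, c i j • J.toCotangent (f j) := funext fun i => by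
        rw [← hc i]
        simp [Fintype.linearCombination_apply, map_sum]
      rw [hv, MultilinearMap.map_sum]
      refine Finset.sum_congr rfl fun h _ => ?_
      rw [map_smul, hT, MultilinearMap.map_smul_univ]
    | zero => exact ⟨0, isHomogeneous_zero _ _ _, map_zero T⟩
    | add x y _ _ hx hy =>
      obtain ⟨P, hP, rfl⟩ := hx
      obtain ⟨P', hP', rfl⟩ := hy
      exact ⟨P + P', hP.add hP', map_add T P P'⟩
    | smul a x _ hx =>
      obtain ⟨P, hP, rfl⟩ := hx
      exact ⟨a • P, by rw [smul_eq_C_mul]; exact hP.C_mul a, map_smul T a P⟩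
  have hy : eval (fun i => (f i : R)) Q ∈ J ^ Fintype.card ι := by
    have hQ' := homog_mem_span (ι := ι) Q hQ
    clear ht hQ
    induction hQ' using Submodule.span_induction with
    | mem x hx =>
      obtain ⟨h, rfl⟩ := hx
      rw [map_prod, ← Finset.card_univ, ← Finset.prod_const]
      exact Ideal.prod_mem_prod fun i _ => by rw [eval_X]; exact (f (h i)).2
    | zero => simp
    | add x y _ _ hx hy => rw [map_add]; exact add_mem hx hy
    | smul a x _ hx => rw [smul_eval]; exact Ideal.mul_mem_left _ _ hx
  rw [hTφ Q hQ hy, Submodule.Quotient.mk_eq_zero] at ht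
  -- the relations are killed
  let T' : MvPolynomial (Fin r) R →ₗ[R] SymmetricPower R ι J.Cotangent :=
    T ∘ₗ homogeneousComponent (Fintype.card ι)
  suffices hrel : ∀ z ∈ rel J (fun i => (f i : R)), ∀ p, T' (p * z) = 0 by
    have h0 := hrel Q (H Q hQ ht) 1
    rwa [one_mul, show T' Q = T Q by
      change T (homogeneousComponent _ Q) = T Q
      rw [homogeneousComponent_of_mem ((mem_homogeneousSubmodule _ _).2 hQ), if_pos rfl]] at h0
  intro z hz
  induction hz using Submodule.span_induction with
  | zero => intro p; rw [mul_zero, map_zero]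
  | add x y _ _ hx hy => intro p; rw [mul_add, map_add, hx, hy, add_zero]
  | smul a x _ hx => intro p; rw [smul_eq_mul, ← mul_assoc, hx]
  | mem x hx =>
    obtain ⟨c, hc, rfl⟩ := hx
    intro p
    induction p using MvPolynomial.induction_on' with
    | add p q hp hq => rw [add_mul, map_add, hp, hq, add_zero]
    | monomial d a =>
      have hL : (∑ i, C (c i) * X i : MvPolynomial (Fin r) R).IsHomogeneous 1 :=
        IsHomogeneous.sum _ _ _ fun i _ => isHomogeneous_C_mul_X _ i
      have hh : (monomial d a * ∑ i, C (c i) * X i).IsHomogeneous (d.degree + 1) :=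
        (isHomogeneous_monomial a rfl).mul hL
      change T (homogeneousComponent _ _) = 0
      rw [homogeneousComponent_of_mem ((mem_homogeneousSubmodule _ _).2 hh)]
      split_ifs with hn
      swap
      · exact map_zero T
      obtain ⟨i₀⟩ := ‹Nonempty ι›
      have hmon := homog_mem_span (ι := {i : ι // i ≠ i₀}) (monomial d a)
        (isHomogeneous_monomial a (by
          rw [Fintype.card_subtype_compl, Fintype.card_subtype_eq, hn, Nat.add_sub_cancel]))
      clear hh
      generalize (monomial d a : MvPolynomial (Fin r) R) = P at hmon ⊢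
      induction hmon using Submodule.span_induction with
      | zero => rw [zero_mul, map_zero]
      | add x y _ _ hx hy => rw [add_mul, map_add, hx, hy, add_zero]
      | smul b x _ hx => rw [smul_mul_assoc, map_smul, hx, smul_zero]
      | mem x hx =>
        obtain ⟨h', rfl⟩ := hx
        let ext' : Fin r → ι → Fin r := fun j i => if hi : i = i₀ then j else h' ⟨i, hi⟩
        have hmul : ∀ j, (∏ i, (X (h' i) : MvPolynomial (Fin r) R)) * (C (c j) * X j) =
            c j • ∏ i, X (ext' j i) := fun j => by
          rw [Fintype.prod_eq_mul_prod_subtype_ne (fun i => (X (ext' j i) : MvPolynomial (Fin r) R)) i₀]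
          simp only [ext', dif_pos]
          rw [smul_eq_C_mul, ← mul_assoc, mul_comm (∏ i, _), mul_assoc, mul_comm (∏ i, _)]
          refine congrArg _ (congrArg _ (Finset.prod_congr rfl fun i _ => ?_))
          rw [dif_neg i.2]
        simp only [Finset.mul_sum, hmul, map_sum, map_smul, hT]
        let w : ι → J.Cotangent := fun i => if hi : i = i₀ then 0 else J.toCotangent (f (h' ⟨i, hi⟩))
        have hw : ∀ j, (fun i => J.toCotangent (f (ext' j i))) =
            Function.update w i₀ (J.toCotangent (f j)) := fun j => funext fun i => by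
          by_cases hi : i = i₀
          · subst hi; simp [ext']
          · simp [ext', w, Function.update_of_ne hi, dif_neg hi]
        simp only [hw, ← MultilinearMap.map_update_smul]
        rw [← MultilinearMap.map_update_sum]
        rw [show ∑ j, c j • J.toCotangent (f j) = 0 from by
          have := (comb_eq_zero_iff f c).2 hc
          simpa [Fintype.linearCombination_apply, map_sum] using this]
        exact MultilinearMap.map_update_zero _ _ _

end Groth.Agent.Lib.LCI5.SymRel
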