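import Groth.Agent.Lib.Synt92.MorAlg
import Groth.Agent.Lib.Synt92.MorStalk
import Mathlib.RingTheory.Localization.AtPrime.Basic

/-! A syntomic algebra over a field is a local complete intersection over it. -/

set_option autoImplicit false
set_option linter.style.haveILetI false

universe u

open scoped TensorProduct

namespace Groth.Agent.Lib.LCI5.SyntField

theorem isLCIOver {k S : Type u} [Field k] [CommRing S] [Algebra k S]
    (h : Synt.IsSyntomic k S) : Synt.IsLCIOver k S := by
  obtain ⟨hfl, hfp, hci⟩ := Synt92.MorAlg.isSyntomic_iff.1 h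
  haveI : Algebra.FiniteType k S := inferInstance
  rw [Groth.Agent.H26.CILoc.isLCIOver_iff k]
  intro q
  let p : PrimeSpectrum k := ⟨⊥, Ideal.isPrime_bot⟩
  let f : k →ₐ[k] p.asIdeal.ResidueField := Algebra.ofId k _
  have hb : Function.Bijective f :=
    ⟨f.toRingHom.injective, Ideal.algebraMap_residueField_surjective p.asIdeal⟩
  let E : S ≃ₐ[k] p.asIdeal.Fiber S :=
    (Algebra.TensorProduct.lid k S).symm.trans
      (Algebra.TensorProduct.congr (AlgEquiv.ofBijective f hb) AlgEquiv.refl)
  let Q : PrimeSpectrum (p.asIdeal.Fiber S) := PrimeSpectrum.comap E.symm.toRingHom q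
  have hM : Submonoid.map E.toRingEquiv.toMonoidHom q.asIdeal.primeCompl = Q.asIdeal.primeCompl := by
    ext x
    simp only [Submonoid.mem_map, Ideal.mem_primeCompl_iff]
    constructor
    · rintro ⟨y, hy, rfl⟩
      intro hm
      apply hy
      have : E.symm (E y) ∈ q.asIdeal := hm
      simpa using this
    · intro hx
      exact ⟨E.symm x, hx, E.apply_symm_apply x⟩
  let e : Localization.AtPrime Q.asIdeal ≃+* Localization.AtPrime q.asIdeal :=
    (IsLocalization.ringEquivOfRingEquiv (M := q.asIdeal.primeCompl) (T := Q.asIdeal.primeCompl)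
      (Localization.AtPrime q.asIdeal) (Localization.AtPrime Q.asIdeal) E.toRingEquiv hM).symm
  haveI := Synt92.MorStalk.essFiniteType_fiber p.asIdeal Q.asIdeal
  haveI : Algebra.EssFiniteType S (Localization.AtPrime q.asIdeal) :=
    Algebra.EssFiniteType.of_isLocalization _ q.asIdeal.primeCompl
  haveI : Algebra.EssFiniteType k (Localization.AtPrime q.asIdeal) :=
    Algebra.EssFiniteType.comp k S _
  exact (Synt92.MorAlg.isCompleteIntersection_iff_of_equiv k e).1
    ((Synt92.MorAlg.isCompleteIntersection_iff_of_equiv p.asIdeal.ResidueField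
      (RingEquiv.refl _)).2 (hci p Q))

end Groth.Agent.Lib.LCI5.SyntField
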