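import Groth.Agent.Lib.DR.TwoTerm
import Groth.Agent.Lib.DR.FlatAcyclic
import Groth.Agent.Lib.WLocal.Retract
import Groth.Prelude.Def_DRing2
import Mathlib.RingTheory.Flat.Basic

/-! The source of a two-term complex of tor amplitude `[-1, 0]` with projective target is flat. -/

set_option autoImplicit false
set_option linter.style.haveILetI false

universe u

open CategoryTheory CategoryTheory.Limits
open Groth.Agent.Lib.DR.Basic Groth.Agent.Lib.DR.TwoTerm Groth.Agent.Lib.FlatCx.Elem

attribute [local instance] HasDerivedCategory.standard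

namespace Groth.Agent.Lib.LCI5.TwoTermFlat

/-- The algebra: a quasi-isomorphism `[X → Y] → [E₁ → E₀]` into flat modules with `Y` flat makes `X` flat. -/
theorem flat_of_quasiIso {A X Y E₁ E₀ : Type u} [CommRing A] [AddCommGroup X] [Module A X]
    [AddCommGroup Y] [Module A Y] [AddCommGroup E₁] [Module A E₁] [AddCommGroup E₀] [Module A E₀]
    [Module.Flat A Y] [Module.Flat A E₁] [Module.Flat A E₀] (f : X →ₗ[A] Y) (d : E₁ →ₗ[A] E₀)
    (a : X →ₗ[A] E₁) (b : Y →ₗ[A] E₀) (hcomm : ∀ x, d (a x) = b (f x))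
    (hsurj : ∀ z, ∃ y v, b y + d v = z)
    (hinj : ∀ x, f x = 0 → a x = 0 → x = 0)
    (hinj0 : ∀ y v, d v = b y → ∃ x, f x = y)
    (hsurj1 : ∀ v, d v = 0 → ∃ x, f x = 0 ∧ a x = v) :
    Module.Flat A X := by
  let g : (Y × E₁) →ₗ[A] E₀ := b.comp (LinearMap.fst A Y E₁) - d.comp (LinearMap.snd A Y E₁)
  have hg : Function.Surjective g := fun z => by
    obtain ⟨y, v, h⟩ := hsurj z
    exact ⟨(y, -v), by simp [g, ← h]⟩
  haveI : Module.Flat A (Y × E₁) := Groth.Agent.Lib.WLocal.Retract.flat_prod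
  haveI : Module.Flat A (LinearMap.ker g) := Groth.Agent.Lib.DR.FlatAcyclic.flat_ker g hg
  let j : X →ₗ[A] LinearMap.ker g := (f.prod a).codRestrict _ fun x => by simp [g, hcomm]
  have hj : Function.Bijective j := by
    refine ⟨(injective_iff_map_eq_zero _).2 fun x hx => ?_, ?_⟩
    · exact hinj x (congrArg (fun p => (p : Y × E₁).1) (congrArg Subtype.val hx))
        (congrArg (fun p => (p : Y × E₁).2) (congrArg Subtype.val hx))
    · rintro ⟨⟨y, v⟩, hyv⟩
      have hyv' : b y = d v := sub_eq_zero.1 hyv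
      obtain ⟨c, rfl⟩ := hinj0 y v hyv'.symm
      obtain ⟨c', h0, h3⟩ := hsurj1 (v - a c) (by rw [map_sub, hcomm, hyv', sub_self])
      refine ⟨c + c', Subtype.ext (Prod.ext ?_ ?_)⟩
      · change f (c + c') = f c
        rw [map_add, h0, add_zero]
      · change a (c + c') = v
        rw [map_add, h3, add_sub_cancel]
  exact Module.Flat.of_linearEquiv (LinearEquiv.ofBijective j hj)

theorem flat_of_torAmplitude {A : Type u} [CommRing A] {X Y : ModuleCat.{u} A} (f : X ⟶ Y)
    [Module.Projective A Y] (h : DRing.HasTorAmplitudeIn A (-1) 0 (DRing.toD (two f))) :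
    Module.Flat A X := by
  obtain ⟨E, hE, hflat, ⟨e⟩⟩ := h
  have hM : ∀ i : ℤ, 0 < i → IsZero ((two f).X i) := fun i hi => isZero_two f i (Or.inr hi)
  have hM0 : Module.Projective A ((two f).X 0) := Module.Projective.of_equiv (twoXIso₁ f).symm.toLinearEquiv
  obtain ⟨φ, hφ⟩ := exists_Q_map_eq' (M := two f) (K := E) hM hM0 (fun i hi => hE i (by omega)) e.inv
  haveI : QuasiIso φ := by
    rw [← DerivedCategory.isIso_Q_map_iff_quasiIso, hφ]
    exact e.symm.isIso_hom
  have hb : ∀ i : ℤ, Function.Bijective (HomologicalComplex.homologyMap φ i) := fun i =>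
    (ConcreteCategory.isIso_iff_bijective _).1 inferInstance
  haveI := hflat (-1)
  haveI := hflat 0
  haveI : Module.Flat A Y := Module.Flat.of_projective
  have hd : ∀ x : X, (two f).d (-1) 0 ((twoXIso₀ f).inv x) = (twoXIso₁ f).inv (f x) := fun x => by
    rw [two_d]; simp
  refine flat_of_quasiIso f.hom (E.d (-1) 0).hom
    ((φ.f (-1)).hom.comp (twoXIso₀ f).symm.toLinearEquiv.toLinearMap)
    ((φ.f 0).hom.comp (twoXIso₁ f).symm.toLinearEquiv.toLinearMap) ?_ ?_ ?_ ?_ ?_
  · intro x
    have := congrArg (fun g => g.hom ((twoXIso₀ f).inv x)) (φ.comm (-1) 0)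
    simp only [ModuleCat.hom_comp, LinearMap.comp_apply] at this
    rw [show ((two f).d (-1) 0).hom ((twoXIso₀ f).inv x) = (twoXIso₁ f).inv (f x) from hd x] at this
    exact this
  · intro z
    obtain ⟨w, y, -, hwy⟩ := (surjective_homologyMap_iff φ (i := -1) (k := 1) (by simp) (by simp)).1
      (hb 0).2 z (by
        have := ModuleCat.subsingleton_of_isZero (hE 1 (by omega))
        exact Subsingleton.elim _ _)
    refine ⟨(twoXIso₁ f).hom w, -y, ?_⟩
    change φ.f 0 ((twoXIso₁ f).inv ((twoXIso₁ f).hom w)) + E.d (-1) 0 (-y) = z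
    rw [show (twoXIso₁ f).inv ((twoXIso₁ f).hom w) = w by simp, map_neg, hwy, add_neg_cancel_right]
  · intro x h1 h2
    obtain ⟨y', hy'⟩ := (injective_homologyMap_iff φ (i := -2) (k := 0) (by simp) (by simp)).1 (hb (-1)).1
      ((twoXIso₀ f).inv x) (by rw [hd]; exact (congrArg _ h1).trans (map_zero _)) 0
      (by rw [map_zero]; exact h2.symm)
    rw [(isZero_two f (-2) (Or.inl (by omega))).eq_of_src ((two f).d (-2) (-1)) 0] at hy'
    apply (twoXIso₀ f).symm.toLinearEquiv.injective
    rw [map_zero]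
    exact hy'.symm
  · intro y v hyv
    obtain ⟨w, hw⟩ := (injective_homologyMap_iff φ (i := -1) (k := 1) (by simp) (by simp)).1 (hb 0).1
      ((twoXIso₁ f).inv y) (by rw [two_d_zero]; rfl) v hyv
    refine ⟨(twoXIso₀ f).hom w, ?_⟩
    apply (twoXIso₁ f).symm.toLinearEquiv.injective
    have h' := hd ((twoXIso₀ f).hom w)
    rw [show (twoXIso₀ f).inv ((twoXIso₀ f).hom w) = w by simp, hw] at h'
    exact h'.symm
  · intro v hv
    obtain ⟨w, z, hw, hwz⟩ := (surjective_homologyMap_iff φ (i := -2) (k := 0) (by simp) (by simp)).1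
      (hb (-1)).2 v hv
    have hz : z = 0 := by
      have := ModuleCat.subsingleton_of_isZero (hE (-2) (by omega))
      exact Subsingleton.elim _ _
    rw [hz, map_zero, add_zero] at hwz
    refine ⟨(twoXIso₀ f).hom w, ?_, ?_⟩
    · apply (twoXIso₁ f).symm.toLinearEquiv.injective
      rw [map_zero]
      have h' := hd ((twoXIso₀ f).hom w)
      rw [show (twoXIso₀ f).inv ((twoXIso₀ f).hom w) = w by simp, hw] at h'
      exact h'.symm
    · change φ.f (-1) ((twoXIso₀ f).inv ((twoXIso₀ f).hom w)) = v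
      rw [show (twoXIso₀ f).inv ((twoXIso₀ f).hom w) = w by simp, hwz]

end Groth.Agent.Lib.LCI5.TwoTermFlat
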